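import Groth.Agent.Fano.K870.CurTop
import Groth.Agent.Fano.K714.ConicIrr

/-!
# Every component degenerates to combs: one step (S16526, section NODE REACH of the plan)

* `pb_zero`: the case of degree zero;
* `chart_step`: one step towards the boundary inside the comb chart;
* `reach_succ`: limits of teeth.  The two facts on boundaries (`bd_add`, `bd_eqs`) are hypotheses.
-/

set_option autoImplicit false

universe u

namespace K870.Reach

open LefPen Groth.Agent.Lefpen.H703.ZOpen Module K714.Irr K714.Frames K470.Cur K656.Trilin K714.Surf K870.CurTop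

variable {k : Type u} [Field k]
variable {T : (Fin 5 → k) →ₗ[k] (Fin 5 → k) →ₗ[k] (Fin 5 → k) →ₗ[k] k}

theorem pb_zero [IsAlgClosed k] [CharZero k] (hT : IsSym3 T) (hsm : SmoothOn T ⊤) :
    ∀ W, IsComp k (Z T 0) W → ∀ x, GoodPt T x → Reach T x W := by
  intro W hW x hx
  have hev : ∀ (a : A k 0) (s : k), ev a s = a 0 := fun a s => by simp [ev]
  have hZ : Z T 0 = (fun (u : Fin 5 → k) => (fun _ => u : A k 0)) '' {u | T u u u = 0} := by
    ext a
    constructor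
    · intro ha
      refine ⟨a 0, ?_, ?_⟩
      · have := ha 0
        rwa [hev] at this
      · funext i
        have hi : i = 0 := Fin.ext (by have := i.2; omega)
        rw [hi]
    · rintro ⟨u, hu, rfl⟩ s
      rw [hev]
      exact hu
  have hirr : Irr k (Z T 0) := by
    rw [hZ]
    exact (K714.ConicIrr.hyp_irr hT hsm).image (pm_pi fun _ => isPolyMap_id)
  have hWZ : Z T 0 = W := hW.2.2 _ subset_rfl hirr hW.1
  refine ⟨Fin.elim0, Fin.elim0, ⟨Function.injective_of_subsingleton _, fun i => i.elim0⟩, subset_cl _ ⟨?_, ?_, fun i => i.elim0⟩⟩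
  · rw [← hWZ]
    intro s
    show T (ev (prodCurve x Fin.elim0) s) (ev (prodCurve x Fin.elim0) s) (ev (prodCurve x Fin.elim0) s) = 0
    rw [ev_prodCurve]
    simpa using hx.2.1
  · exact Function.injective_of_subsingleton _

/-- one step towards the boundary inside the chart -/
theorem chart_step [IsAlgClosed k] {e : ℕ} {W : Set (A k (e + 1))} {y : Y k e} {p : Fin 5 → k}
    (hy : y ∈ Ov (Set.univ : Set (A k e))) (ht : ∀ i, y.2.1 i ≠ 0) (h : (p, y.1) ∈ bd W) :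
    ((Fin.cons 0 y.1, Fin.cons 0 y.2.1, Fin.cons 0 y.2.2.1, Fin.cons p (fun i => y.2.1 i • y.2.2.2 i)) : Y k (e + 1)) ∈
      Cl k (Ov W) := by
  have ha : IsPolyMap k (fun q : k × (Fin 5 → k) × A k e => (Fin.cons (q.1 • q.2.1) q.2.2 : A k (e + 1))) :=
    pm_cons (pm_smul (isPolyMap_iff_isPolyFun.1 isPolyMap_fst) (pm_comp isPolyMap_fst isPolyMap_snd))
      (pm_comp isPolyMap_snd isPolyMap_snd)
  have hφ : IsPolyMap k (fun q : k × (Fin 5 → k) × A k e =>
      (((Fin.cons (q.1 • q.2.1) q.2.2 : A k (e + 1)), (Fin.cons 0 y.2.1 : Fin (e + 1) → k),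
        (Fin.cons q.1 y.2.2.1 : Fin (e + 1) → k),
        (Fin.cons q.2.1 (fun i => (y.2.2.1 i)⁻¹ • ev (Fin.cons (q.1 • q.2.1) q.2.2 : A k (e + 1)) (y.2.1 i)) :
          Fin (e + 1) → Fin 5 → k)) : Y k (e + 1))) :=
    pm_prodMk ha (pm_prodMk (isPolyMap_const _) (pm_prodMk (pm_cons isPolyMap_fst (isPolyMap_const _))
      (pm_cons (pm_comp isPolyMap_fst isPolyMap_snd)
        (pm_pi fun i => pm_smul (isPolyFun_const _) (pm_ev ha (isPolyFun_const _))))))
  have h1 := cl_map (S := hat W) (R := Ov W) hφ (by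
    rintro ⟨α, p', b'⟩ ⟨hα, hW⟩
    refine ⟨hW, ?_, ?_⟩
    · exact Fin.cons_injective_iff.2 ⟨fun ⟨i, hi⟩ => ht i hi, hy.2.1⟩
    · intro i
      refine Fin.cases ?_ (fun j => ?_) i
      · refine ⟨hα, ?_⟩
        show ev (Fin.cons (α • p') b' : A k (e + 1)) 0 = α • p'
        rw [ev_zero]
        rfl
      · refine ⟨(hy.2.2 j).1, ?_⟩
        show ev (Fin.cons (α • p') b' : A k (e + 1)) (y.2.1 j) =
          y.2.2.1 j • (y.2.2.1 j)⁻¹ • ev (Fin.cons (α • p') b' : A k (e + 1)) (y.2.1 j)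
        rw [smul_smul, mul_inv_cancel₀ (hy.2.2 j).1, one_smul]) h
  convert h1 using 3
  · simp
  · congr 1
    congr 1
    funext i
    rw [ev_cons, (hy.2.2 i).2]
    simp only [zero_smul, zero_add, smul_smul]
    congr 1
    rw [mul_comm (y.2.1 i), ← mul_assoc, inv_mul_cancel₀ (hy.2.2 i).1, one_mul]

/-- A component degenerates to a comb with all `t_i ≠ 0`. -/
theorem reach_ne [Infinite k] {e : ℕ} {x : Fin 5 → k} {W : Set (A k e)} (hW : IsComp k (Z T e) W)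
    (hr : Reach T x W) : ∃ t p, IsComb T x t p ∧ (∀ i, t i ≠ 0) ∧ comb x t p ∈ Cl k (Ov W) := by
  obtain ⟨t, p, hc, hcl⟩ := hr
  obtain ⟨c, hc'⟩ := (Set.finite_range t).exists_notMem
  refine ⟨fun i => t i - c, p, ⟨fun i j hij => hc.1 (sub_left_injective hij), hc.2⟩, fun i hi => ?_, ?_⟩
  · exact hc' ⟨i, (sub_eq_zero.1 hi)⟩
  · have hχ : IsPolyMap k (fun y : Y k e => (((fun i => hd y.1 i c : A k e), (fun i => y.2.1 i - c : Fin e → k),
        y.2.2.1, y.2.2.2) : Y k e)) :=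
      pm_prodMk (pm_pi fun i => pm_hd isPolyMap_fst (isPolyFun_const _) _)
        (pm_prodMk (pm_pi fun i => pm_sub (pm_apply (pm_comp isPolyMap_fst isPolyMap_snd) i) (isPolyMap_const _))
          (pm_prodMk (pm_comp isPolyMap_fst (pm_comp isPolyMap_snd isPolyMap_snd))
            (pm_comp isPolyMap_snd (pm_comp isPolyMap_snd isPolyMap_snd))))
    have h1 := cl_map (S := Ov W) (R := Ov W) hχ (by
      rintro y ⟨hy, hinj, hev⟩
      refine ⟨comp_translate hW c hy, fun i j hij => hinj (sub_left_injective hij), fun i => ⟨(hev i).1, ?_⟩⟩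
      show ev (fun i => hd y.1 i c : A k e) (y.2.1 i - c) = _
      rw [ev_hd, add_sub_cancel]
      exact (hev i).2) hcl
    convert h1 using 2
    · exact (hd_prodCurve x t c).symm
    · rfl

/-- limits of teeth -/
theorem reach_succ [IsAlgClosed k] (hT : IsSym3 T) {e : ℕ} {W : Set (A k (e + 1))}
    (hadd : ∀ (p : Fin 5 → k) (b : A k e), (p, b) ∈ bd W → ∀ c d : k, c ≠ 0 → (c • p + d • b 0, b) ∈ bd W)
    (heqs : ∀ q : (Fin 5 → k) × A k e, q ∈ bd W → q.2 ∈ Z T e ∧ q.1 ∈ Cone T (q.2 0))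
    {G : Set ((Fin 5 → k) × A k e)} {W' : Set (A k e)} (hG : G ⊆ bd W) (hW' : IsComp k (Z T e) W')
    (h : ∀ q ∈ G, q.2 ∈ W' ∧ LinearIndependent k ![q.1, q.2 0]) (hcl : W' ⊆ Cl k (Prod.snd '' G))
    {x : Fin 5 → k} (hx : GoodPt T x) (hr : Reach T x W') : Reach T x W := by
  have hinf : Infinite k := IsAlgClosed.instInfinite
  obtain ⟨t, p, hc, ht, hr'⟩ := reach_ne hW' hr
  obtain ⟨j₀, hj₀⟩ := Function.ne_iff.1 hx.1
  let l : (Fin 5 → k) →ₗ[k] k := LinearMap.proj j₀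
  have hlx : l x ≠ 0 := hj₀
  have hprod : (∏ j, (- t j)) ≠ 0 := Finset.prod_ne_zero_iff.2 fun j _ => neg_ne_zero.2 (ht j)
  let S : Set (↥(LinearMap.ker l) × Y k e) :=
    {s | s.2 ∈ Ov W' ∧ s.1 ≠ 0 ∧ (∀ i, s.2.2.1 i ≠ 0) ∧ l (s.2.1 0) ≠ 0 ∧ ∃ q ∈ G, q.2 = s.2.1 ∧ ∃ c : k, c ≠ 0 ∧
      (s.1 : Fin 5 → k) = c • (l (q.2 0) • q.1 - l q.1 • q.2 0)}
  -- the projection of `S` is dense near the comb
  have hS1 : comb x t p ∈ Cl k (Prod.snd '' S) := by
    intro O hO hcO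
    have hO1 : IsZOpen k {y : Y k e | l (y.1 0) ≠ 0} :=
      isZOpen_basic (pf_apply (pm_apply isPolyMap_fst 0) j₀)
    have hO2 : IsZOpen k {y : Y k e | ∀ i, y.2.1 i ≠ 0} := by
      have : {y : Y k e | ∀ i, y.2.1 i ≠ 0} = ⋂ i, {y : Y k e | y.2.1 i ≠ 0} := by
        ext y
        simp
      rw [this]
      exact isZOpen_iInter fun i => isZOpen_basic (pf_apply (pm_comp isPolyMap_fst isPolyMap_snd) i)
    have hO3 := zo_inter hO (zo_inter hO1 hO2)
    have hc3 : comb x t p ∈ O ∩ ({y : Y k e | l (y.1 0) ≠ 0} ∩ {y : Y k e | ∀ i, y.2.1 i ≠ 0}) := by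
      refine ⟨hcO, ?_, ht⟩
      show l ((prodCurve x t : A k e) 0) ≠ 0
      rw [prodCurve_zero, map_smul, smul_eq_mul]
      exact mul_ne_zero hprod hlx
    obtain ⟨y0, hy0, hy0O⟩ := hr' _ hO3 hc3
    have hψ : IsPolyMap k (fun a : A k e => ((a, y0.2.1, y0.2.2.1,
        (fun i => (y0.2.2.1 i)⁻¹ • ev a (y0.2.1 i) : Fin e → Fin 5 → k)) : Y k e)) :=
      pm_prodMk isPolyMap_id (pm_prodMk (isPolyMap_const _) (pm_prodMk (isPolyMap_const _)
        (pm_pi fun i => pm_smul (isPolyFun_const _) (pm_ev isPolyMap_id (isPolyFun_const _)))))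
    have hy0' : ((y0.1, y0.2.1, y0.2.2.1,
        (fun i => (y0.2.2.1 i)⁻¹ • ev y0.1 (y0.2.1 i) : Fin e → Fin 5 → k)) : Y k e) = y0 := by
      have : (fun i => (y0.2.2.1 i)⁻¹ • ev y0.1 (y0.2.1 i) : Fin e → Fin 5 → k) = y0.2.2.2 := by
        funext i
        rw [(hy0.2.2 i).2, smul_smul, inv_mul_cancel₀ (hy0.2.2 i).1, one_smul]
      rw [this]
    obtain ⟨_, ⟨q, hqG, rfl⟩, hqO⟩ := hcl hy0.1 _ (zo_preimage hO3 hψ) (by
      rw [Set.mem_preimage, hy0']
      exact hy0O)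
    refine ⟨_, ⟨(⟨l (q.2 0) • q.1 - l q.1 • q.2 0, ?_⟩, _), ⟨?_, ?_, ?_, ?_, q, hqG, rfl, 1, one_ne_zero, ?_⟩, rfl⟩, hqO.1⟩
    · rw [LinearMap.mem_ker, map_sub, map_smul, map_smul, smul_eq_mul, smul_eq_mul, mul_comm, sub_self]
    · refine ⟨(h q hqG).1, hy0.2.1, fun i => ⟨(hy0.2.2 i).1, ?_⟩⟩
      show _ = y0.2.2.1 i • (y0.2.2.1 i)⁻¹ • ev q.2 (y0.2.1 i)
      rw [smul_smul, mul_inv_cancel₀ (hy0.2.2 i).1, one_smul]
    · intro h0
      have h1 := congrArg Subtype.val h0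
      have h2 := LinearIndependent.pair_iff.1 (h q hqG).2 (l (q.2 0)) (- l q.1) (by
        rw [neg_smul, ← sub_eq_add_neg]
        exact h1)
      exact hqO.2.1 h2.1
    · exact hqO.2.2
    · exact hqO.2.1
    · rw [one_smul]
  have hS2 : ∀ s ∈ S, s.1 ≠ 0 := fun s hs => hs.2.1
  have hS3 : ∀ s ∈ S, ∀ c : k, c ≠ 0 → (c • s.1, s.2) ∈ S := by
    rintro s ⟨h1, h2, h3, h4, q, hq, hqs, c', hc', he⟩ c hc0
    refine ⟨h1, smul_ne_zero hc0 h2, h3, h4, q, hq, hqs, c * c', mul_ne_zero hc0 hc', ?_⟩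
    rw [mul_smul, ← he]
    rfl
  obtain ⟨pe, hpe0, hpe⟩ := exists_of_cl_snd hS2 hS3 hS1
  have hbd : ∀ s ∈ S, ((s.1 : Fin 5 → k), s.2.1) ∈ bd W := by
    rintro s ⟨-, -, -, h4, q, hq, hqs, c, hc0, he⟩
    have h1 := hadd q.1 q.2 (hG hq) (c * l (q.2 0)) (- (c * l q.1)) (mul_ne_zero hc0 (by rw [hqs]; exact h4))
    rw [he, ← hqs]
    convert h1 using 2
    rw [smul_sub, smul_smul, smul_smul, neg_smul, ← sub_eq_add_neg]
  have hm1 : IsPolyMap k (fun s : ↥(LinearMap.ker l) × Y k e => (s.1 : Fin 5 → k)) :=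
    pm_comp (isPolyMap_linear (LinearMap.ker l).subtype) isPolyMap_fst
  have hm2 : IsPolyMap k (fun s : ↥(LinearMap.ker l) × Y k e => s.2.1) := pm_comp isPolyMap_fst isPolyMap_snd
  have hm22 : IsPolyMap k (fun s : ↥(LinearMap.ker l) × Y k e => s.2.2) := pm_comp isPolyMap_snd isPolyMap_snd
  have hm222 : IsPolyMap k (fun s : ↥(LinearMap.ker l) × Y k e => s.2.2.2) := pm_comp isPolyMap_snd hm22
  have hm3 : IsPolyMap k (fun s : ↥(LinearMap.ker l) × Y k e => s.2.2.1) := pm_comp isPolyMap_fst hm22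
  have hm4 : IsPolyMap k (fun s : ↥(LinearMap.ker l) × Y k e => s.2.2.2.1) := pm_comp isPolyMap_fst hm222
  have hm5 : IsPolyMap k (fun s : ↥(LinearMap.ker l) × Y k e => s.2.2.2.2) := pm_comp isPolyMap_snd hm222
  have hΨ : IsPolyMap k (fun s : ↥(LinearMap.ker l) × Y k e => (((Fin.cons 0 s.2.1 : A k (e + 1)),
      (Fin.cons 0 s.2.2.1 : Fin (e + 1) → k), (Fin.cons 0 s.2.2.2.1 : Fin (e + 1) → k),
      (Fin.cons (s.1 : Fin 5 → k) (fun i => s.2.2.1 i • s.2.2.2.2 i) : Fin (e + 1) → Fin 5 → k)) : Y k (e + 1))) :=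
    pm_prodMk (pm_cons (isPolyMap_const _) hm2) (pm_prodMk (pm_cons (isPolyMap_const _) hm3)
      (pm_prodMk (pm_cons (isPolyMap_const _) hm4)
        (pm_cons hm1 (pm_pi fun i => pm_smul (pf_apply hm3 i) (pm_apply hm5 i)))))
  have hstep := cl_cl_subset _ (cl_map (S := S) (R := Cl k (Ov W)) hΨ (fun s hs =>
    chart_step (y := s.2) ⟨trivial, hs.1.2⟩ hs.2.2.1 (hbd s hs)) hpe)
  have hcone : ∀ s ∈ S, (s.1 : Fin 5 → k) ∈ Cone T (s.2.1 0) := fun s hs => (heqs _ (hbd s hs)).2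
  have hm6 : IsPolyMap k (fun s : ↥(LinearMap.ker l) × Y k e => s.2.1 0) := pm_apply hm2 0
  have e1 := eq_zero_of_cl (K714.TypeConst.pf_tri T hm1 hm1 hm1) (fun s hs => (hcone s hs).1) hpe
  have e2 := eq_zero_of_cl (K714.TypeConst.pf_tri T hm1 hm1 hm6) (fun s hs => (hcone s hs).2.1) hpe
  have e3 := eq_zero_of_cl (K714.TypeConst.pf_tri T hm1 hm6 hm6) (fun s hs => (hcone s hs).2.2) hpe
  have hcomb0 : ((comb x t p).1 : A k e) 0 = (∏ j, (- t j)) • x := prodCurve_zero x t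
  simp only [hcomb0, map_smul, LinearMap.smul_apply, smul_eq_mul] at e2 e3
  have e2' := (mul_eq_zero.1 e2).resolve_left hprod
  have e3' := (mul_eq_zero.1 ((mul_eq_zero.1 e3).resolve_left hprod)).resolve_left hprod
  refine ⟨Fin.cons 0 t, Fin.cons (pe : Fin 5 → k) (fun i => t i • p i), ⟨?_, ?_⟩, ?_⟩
  · exact Fin.cons_injective_iff.2 ⟨fun ⟨i, hi⟩ => ht i hi, hc.1⟩
  · intro i
    refine Fin.cases ?_ (fun j => ?_) i
    · rw [Fin.cons_zero]
      refine ⟨LinearIndependent.pair_iff.2 fun a b hab => ?_, hx.2.1, ?_, ?_, e1⟩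
      · have h1 := congrArg l hab
        rw [map_add, map_smul, map_smul, LinearMap.mem_ker.1 pe.2, smul_zero, add_zero, map_zero, smul_eq_mul] at h1
        have ha := (mul_eq_zero.1 h1).resolve_right hlx
        rw [ha, zero_smul, zero_add] at hab
        refine ⟨ha, (smul_eq_zero.1 hab).resolve_right fun h0 => hpe0 (Subtype.ext h0)⟩
      · exact (hT.rot' _ _ _).trans e3'
      · exact (hT.rot _ _ _).trans e2'
    · rw [Fin.cons_succ]
      obtain ⟨f1, f2, f3, f4, f5⟩ := hc.2 j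
      refine ⟨LinearIndependent.pair_iff.2 fun a b hab => ?_, f2, ?_, ?_, ?_⟩
      · rw [smul_smul] at hab
        obtain ⟨h1, h2⟩ := LinearIndependent.pair_iff.1 f1 _ _ hab
        exact ⟨h1, (mul_eq_zero.1 h2).resolve_right (ht j)⟩
      · simp only [map_smul, smul_eq_mul]
        simp only at f3
        rw [f3, mul_zero]
      · simp only [map_smul, LinearMap.smul_apply, smul_eq_mul]
        simp only at f4
        rw [f4, mul_zero, mul_zero]
      · simp only [map_smul, LinearMap.smul_apply, smul_eq_mul]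
        simp only at f5
        rw [f5, mul_zero, mul_zero, mul_zero]
  · convert hstep using 2
    · exact prodCurve_cons x t
    · refine Prod.ext rfl (Prod.ext (funext fun i => ?_) rfl)
      refine Fin.cases ?_ (fun j => ?_) i <;> rfl

end K870.Reach
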