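import Groth.Agent.Fano.K470.CurDef
import Groth.Agent.Lefpen.H703.Elim

/-!
# Closures, elimination and evaluation of parametrised curves

Elementary facts on `Cl`, and on `ev`, `hd`, `prodCurve`:
* `exists_of_cl_snd`: elimination for closures;
* `ev_cons`, `ev_add`, `ev_prodCurve`, `ev_injective`, `hd_prodCurve`, `prodCurve_cons`;
* `comp_translate`.
-/

set_option autoImplicit false

universe u

namespace K870.CurTop

open LefPen Groth.Agent.Lefpen.H703.ZOpen Module K714.Irr K714.Frames K470.Cur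

section Top

variable {k : Type u} [Field k] {V W : Type u} [AddCommGroup V] [Module k V] [AddCommGroup W] [Module k W]

theorem subset_cl (S : Set V) : S ⊆ Cl k S := fun v hv _ _ hvO => ⟨v, hv, hvO⟩

theorem cl_mono {S S' : Set V} (h : S ⊆ S') : Cl k S ⊆ Cl k S' := fun _ hv O hO hvO => by
  obtain ⟨w, hw, hwO⟩ := hv O hO hvO
  exact ⟨w, h hw, hwO⟩

theorem cl_cl_subset (S : Set V) : Cl k (Cl k S) ⊆ Cl k S := fun _ hv O hO hvO => by
  obtain ⟨w, hw, hwO⟩ := hv O hO hvO
  exact hw O hO hwO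

theorem isZOpen_compl_cl (S : Set V) : IsZOpen k (Cl k S)ᶜ := by
  intro v hv
  simp only [Cl, Set.mem_compl_iff, Set.mem_ofPred_eq, not_forall] at hv
  obtain ⟨O, hO, hvO, hne⟩ := hv
  obtain ⟨f, hf, hfv, hfO⟩ := hO v hvO
  exact ⟨f, hf, hfv, fun w hw hwcl => hne (hwcl O hO (hfO w hw))⟩

theorem cl_image {S : Set V} {φ : V → W} (hφ : IsPolyMap k φ) {v : V} (hv : v ∈ Cl k S) :
    φ v ∈ Cl k (φ '' S) := fun O hO h => by
  obtain ⟨s, hs, hsO⟩ := hv _ (zo_preimage hO hφ) h
  exact ⟨φ s, ⟨s, hs, rfl⟩, hsO⟩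

theorem cl_map {S : Set V} {R : Set W} {φ : V → W} (hφ : IsPolyMap k φ) (h : ∀ s ∈ S, φ s ∈ R) {v : V}
    (hv : v ∈ Cl k S) : φ v ∈ Cl k R :=
  cl_mono (by rintro _ ⟨s, hs, rfl⟩; exact h s hs) (cl_image hφ hv)

theorem cl_inter {S O : Set V} (hO : IsZOpen k O) {v : V} (hv : v ∈ Cl k S) (hvO : v ∈ O) :
    v ∈ Cl k (S ∩ O) := fun O' hO' h' => by
  obtain ⟨w, hw, hwO, hwO'⟩ := hv _ (zo_inter hO hO') ⟨hvO, h'⟩
  exact ⟨w, ⟨hw, hwO⟩, hwO'⟩

theorem eq_zero_of_cl {S : Set V} {f : V → k} (hf : IsPolyFun k f) (h : ∀ s ∈ S, f s = 0) {v : V}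
    (hv : v ∈ Cl k S) : f v = 0 := by
  by_contra hne
  obtain ⟨s, hs, hs'⟩ := hv _ (isZOpen_basic hf) hne
  exact hs' (h s hs)

/-- Elimination for closures. -/
theorem exists_of_cl_snd [IsAlgClosed k] [FiniteDimensional k V] {S : Set (V × W)} (h0 : ∀ q ∈ S, q.1 ≠ 0)
    (hc : ∀ q ∈ S, ∀ c : k, c ≠ 0 → (c • q.1, q.2) ∈ S) {w : W} (hw : w ∈ Cl k (Prod.snd '' S)) :
    ∃ v : V, v ≠ 0 ∧ (v, w) ∈ Cl k S := by
  by_contra hcon
  push Not at hcon
  have hO := Groth.Agent.Lefpen.H703.Elim.isZOpen_forall_ne_zero (k := k) (E := V) (V := W)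
    (isZOpen_compl_cl (k := k) S) (by
      intro v w c hc0 hvw hcl
      apply hvw
      have h1 : IsPolyMap k (fun q : V × W => (c⁻¹ • q.1, q.2)) :=
        pm_prodMk (pm_smul (isPolyFun_const _) isPolyMap_fst) isPolyMap_snd
      have h2 := cl_map (R := S) h1 (fun q hq => hc q hq c⁻¹ (inv_ne_zero hc0)) hcl
      simpa [smul_smul, inv_mul_cancel₀ hc0] using h2)
  obtain ⟨_, ⟨⟨v, w'⟩, hq, rfl⟩, h'⟩ := hw _ hO (fun v hv => hcon v hv)
  exact h' v (h0 _ hq) (subset_cl S hq)

/-- Maps into products are polynomial if the components are. -/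
theorem pm_pi {ι : Type} [Finite ι] {φ : V → ι → W} (h : ∀ i, IsPolyMap k (fun v => φ v i)) : IsPolyMap k φ := by
  classical
  cases nonempty_fintype ι
  intro l
  have : (fun v => l (φ v)) = fun v => ∑ i, (l.comp (LinearMap.single k (fun _ : ι => W) i)) (φ v i) := by
    ext v
    conv_lhs => rw [← Finset.univ_sum_single (φ v), map_sum]
    rfl
  rw [this]
  exact pf_sum _ fun i _ => h i _

theorem pm_sum {ι : Type*} (s : Finset ι) {f : ι → V → W} (hf : ∀ i ∈ s, IsPolyMap k (f i)) :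
    IsPolyMap k (fun v => ∑ i ∈ s, f i v) := fun l => by
  simp only [map_sum]
  exact pf_sum _ fun i hi => hf i hi l

theorem pm_apply {ι : Type} {φ : V → ι → W} (h : IsPolyMap k φ) (i : ι) : IsPolyMap k (fun v => φ v i) :=
  pm_comp (isPolyMap_linear (LinearMap.proj i : (ι → W) →ₗ[k] W)) h

theorem pf_apply {ι : Type} {φ : V → ι → k} (h : IsPolyMap k φ) (i : ι) : IsPolyFun k (fun v => φ v i) :=
  isPolyMap_iff_isPolyFun.1 (pm_apply h i)

theorem pm_cons {n : ℕ} {f : V → W} {g : V → Fin n → W} (hf : IsPolyMap k f) (hg : IsPolyMap k g) :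
    IsPolyMap k (fun v => (Fin.cons (f v) (g v) : Fin (n + 1) → W)) := by
  refine pm_pi fun i => ?_
  refine Fin.cases ?_ (fun j => ?_) i
  · simpa using hf
  · simpa using pm_apply hg j

end Top

section Curves

variable {k : Type u} [Field k] {e : ℕ}

theorem pm_ev {V : Type u} [AddCommGroup V] [Module k V] {a : V → A k e} {s : V → k} (ha : IsPolyMap k a)
    (hs : IsPolyFun k s) : IsPolyMap k (fun v => ev (a v) (s v)) :=
  pm_sum _ fun i _ => pm_smul (pf_pow hs _) (pm_apply ha i)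

theorem pm_hd {V : Type u} [AddCommGroup V] [Module k V] {a : V → A k e} {s : V → k} (ha : IsPolyMap k a)
    (hs : IsPolyFun k s) (j : ℕ) : IsPolyMap k (fun v => hd (a v) j (s v)) :=
  pm_sum _ fun i _ => pm_smul (pf_const_mul _ (pf_pow hs _)) (pm_apply ha i)

theorem ev_cons (c : Fin 5 → k) (b : A k e) (s : k) : ev (Fin.cons c b : A k (e + 1)) s = c + s • ev b s := by
  unfold ev
  rw [Fin.sum_univ_succ, Finset.smul_sum]
  congr 1
  · simp
  · refine Finset.sum_congr rfl fun i _ => ?_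
    rw [Fin.cons_succ, smul_smul, Fin.val_succ, pow_succ']

theorem ev_zero (a : A k e) : ev a 0 = a 0 := by
  unfold ev
  rw [Fin.sum_univ_succ]
  simp

/-- Taylor expansion. -/
theorem ev_add (a : A k e) (s h : k) : ev a (s + h) = ∑ j : Fin (e + 1), h ^ (j : ℕ) • hd a j s := by
  have h1 : ∀ i : Fin (e + 1), (s + h) ^ (i : ℕ) =
      ∑ j : Fin (e + 1), h ^ (j : ℕ) * (((i : ℕ).choose j : k) * s ^ ((i : ℕ) - j)) := by
    intro i
    rw [Fin.sum_univ_eq_sum_range (fun j => h ^ j * (((i : ℕ).choose j : k) * s ^ ((i : ℕ) - j))) (e + 1),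
      add_comm s h, add_pow]
    have h2 : Finset.range ((i : ℕ) + 1) ⊆ Finset.range (e + 1) := Finset.range_subset_range.2 i.2
    rw [← Finset.sum_subset h2]
    · exact Finset.sum_congr rfl fun j _ => by ring
    · intro j _ hj
      rw [Finset.mem_range, not_lt] at hj
      rw [Nat.choose_eq_zero_of_lt (by omega)]
      simp
  unfold ev hd
  simp only [h1, Finset.sum_smul, Finset.smul_sum, smul_smul]
  rw [Finset.sum_comm]

theorem ev_hd (a : A k e) (c s : k) : ev (fun i => hd a i c : A k e) s = ev a (c + s) := (ev_add a c s).symm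

theorem hd_zero (a : A k e) : (fun i => hd a i 0 : A k e) = a := by
  funext j
  unfold hd
  rw [Finset.sum_eq_single j]
  · simp
  · intro i _ hi
    rcases lt_or_gt_of_ne (fun h => hi (Fin.ext h) : (i : ℕ) ≠ j) with h | h
    · rw [Nat.choose_eq_zero_of_lt h]
      simp
    · rw [zero_pow (by omega)]
      simp
  · simp

theorem ev_injective [Infinite k] {a a' : A k e} (h : ∀ s, ev a s = ev a' s) : a = a' := by
  funext i j
  have h1 : (∑ m : Fin (e + 1), Polynomial.C (a m j) * Polynomial.X ^ (m : ℕ)) =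
      ∑ m : Fin (e + 1), Polynomial.C (a' m j) * Polynomial.X ^ (m : ℕ) := by
    apply Polynomial.funext
    intro s
    have := congrFun (h s) j
    simp only [ev, Finset.sum_apply, Pi.smul_apply, smul_eq_mul] at this
    simp only [Polynomial.eval_finsetSum, Polynomial.eval_mul, Polynomial.eval_C, Polynomial.eval_pow,
      Polynomial.eval_X]
    simpa only [mul_comm] using this
  have hc : ∀ b : A k e, (∑ m : Fin (e + 1), Polynomial.C (b m j) * Polynomial.X ^ (m : ℕ)).coeff (i : ℕ) = b i j := by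
    intro b
    rw [Polynomial.finsetSum_coeff, Finset.sum_eq_single i]
    · simp
    · intro m _ hm
      rw [Polynomial.coeff_C_mul, Polynomial.coeff_X_pow, if_neg (fun h => hm (Fin.ext h.symm)), mul_zero]
    · simp
  rw [← hc a, ← hc a', h1]

theorem ev_prodCurve (x : Fin 5 → k) (t : Fin e → k) (s : k) :
    ev (prodCurve x t) s = (∏ j, (s - t j)) • x := by
  have hdeg : (∏ j, (Polynomial.X - Polynomial.C (t j))).natDegree < e + 1 := by
    rw [Polynomial.natDegree_prod_of_monic _ _ fun j _ => Polynomial.monic_X_sub_C _]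
    simp
  have h1 := Polynomial.eval_eq_sum_range' hdeg s
  rw [Polynomial.eval_prod] at h1
  simp only [Polynomial.eval_sub, Polynomial.eval_X, Polynomial.eval_C] at h1
  have h2 := (Fin.sum_univ_eq_sum_range
    (fun i => (∏ j, (Polynomial.X - Polynomial.C (t j))).coeff i * s ^ i) (e + 1))
  rw [h1]
  refine Eq.trans ?_ (congrArg (· • x) h2)
  simp only [Finset.sum_smul]
  unfold ev prodCurve
  exact Finset.sum_congr rfl fun i _ => by rw [smul_smul, mul_comm]

theorem prodCurve_zero (x : Fin 5 → k) (t : Fin e → k) : (prodCurve x t : A k e) 0 = (∏ j, (- t j)) • x := by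
  have h := ev_prodCurve x t 0
  rw [ev_zero] at h
  simpa using h

theorem hd_prodCurve [Infinite k] (x : Fin 5 → k) (t : Fin e → k) (c : k) :
    (fun i => hd (prodCurve x t : A k e) i c : A k e) = prodCurve x (fun j => t j - c) := by
  apply ev_injective
  intro s
  rw [ev_hd, ev_prodCurve, ev_prodCurve]
  congr 1
  exact Finset.prod_congr rfl fun j _ => by ring

theorem prodCurve_cons [Infinite k] (x : Fin 5 → k) (t : Fin e → k) :
    (prodCurve x (Fin.cons 0 t : Fin (e + 1) → k) : A k (e + 1)) = Fin.cons 0 (prodCurve x t : A k e) := by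
  apply ev_injective
  intro s
  rw [ev_cons, ev_prodCurve, ev_prodCurve, Fin.prod_univ_succ, smul_smul, zero_add]
  simp

variable {T : (Fin 5 → k) →ₗ[k] (Fin 5 → k) →ₗ[k] (Fin 5 → k) →ₗ[k] k}

/-- reparametrisations preserve components -/
theorem comp_translate [Infinite k] {W : Set (A k e)} (hW : IsComp k (Z T e) W) (c : k) {a : A k e}
    (ha : a ∈ W) : (fun i => hd a i c : A k e) ∈ W := by
  have himg : Irr k ((fun q : k × A k e => (fun i => hd q.2 i q.1 : A k e)) '' {q | q.1 ∈ Set.univ ∧ q.2 ∈ W}) :=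
    (Irr.prod irr_univ hW.2.1).image
      (pm_pi fun i => pm_hd isPolyMap_snd (isPolyMap_iff_isPolyFun.1 isPolyMap_fst) _)
  have hsub : ((fun q : k × A k e => (fun i => hd q.2 i q.1 : A k e)) '' {q | q.1 ∈ Set.univ ∧ q.2 ∈ W}) ⊆ Z T e := by
    rintro _ ⟨q, ⟨-, hq⟩, rfl⟩ s
    rw [ev_hd]
    exact hW.1 hq _
  have hle : W ⊆ ((fun q : k × A k e => (fun i => hd q.2 i q.1 : A k e)) '' {q | q.1 ∈ Set.univ ∧ q.2 ∈ W}) :=
    fun a ha => ⟨(0, a), ⟨trivial, ha⟩, hd_zero a⟩
  rw [← hW.2.2 _ hsub himg hle]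
  exact ⟨(c, a), ⟨trivial, ha⟩, rfl⟩

end Curves

end K870.CurTop
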