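import Groth.Agent.Fano.K271.QuintGen

/-!
# The general residual complete intersection: genericity by derivations

`ℓ₀, ℓ₁, ℓ₂` linear forms, `q₁, q₂` quadratic forms, `F = ℓ₁ q₁ + ℓ₂ q₂`; for a general linear form `a` the gradients of
`ℓ₀, q₁ + ℓ₂ a, q₂ - ℓ₁ a` are linearly independent at the common zeros, when the hyperplane section
`ℓ₀ = F = 0` is smooth.
-/

set_option autoImplicit false

universe u

namespace K870.QuartGen

open MvPolynomial Groth.Agent.Lefpen.H702 Groth.Agent.Lefpen.H703.ZOpen K271.QuintGen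

section Field

variable {k K : Type*} [Field k] [Field K] [Algebra k K] [CharZero k]
variable (v : Fin 3 → Fin 5 → k) (ℓ : Fin 3 → MvPolynomial (Fin 5) k) (q : Fin 2 → MvPolynomial (Fin 5) k)
  (F : MvPolynomial (Fin 5) k)

/-- No generic bad point. -/
theorem no_generic (hℓ : ∀ j, ∀ x : Fin 5 → K, aeval x (ℓ j) = ∑ i, algebraMap k K (v j i) * x i)
    (hpd : ∀ j i, pderiv i (ℓ j) = C (v j i)) (hF : F = ℓ 1 * q 0 + ℓ 2 * q 1) (hv : v 0 ≠ 0)
    (hS : ∀ x : Fin 5 → K, aeval x (ℓ 0) = 0 → aeval x F = 0 →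
      (∃ t : K, ∀ i, aeval x (pderiv i F) = t * algebraMap k K (v 0 i)) → x = 0)
    (y : Fin 5 → K) (x : Fin 5 → K) (c : Fin 3 → K)
    (e0 : aeval x (ℓ 0) = 0)
    (e1 : aeval x (q 0) + aeval x (ℓ 2) * ∑ i, y i * x i = 0)
    (e2 : aeval x (q 1) - aeval x (ℓ 1) * ∑ i, y i * x i = 0)
    (e4 : ∀ i, c 0 * algebraMap k K (v 0 i) + c 1 * (aeval x (pderiv i (q 0)) +
      algebraMap k K (v 2 i) * (∑ i, y i * x i) + aeval x (ℓ 2) * y i) +
      c 2 * (aeval x (pderiv i (q 1)) - algebraMap k K (v 1 i) * (∑ i, y i * x i) - aeval x (ℓ 1) * y i) = 0)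
    (e5 : c ≠ 0) (hx : x ≠ 0) : ¬ AlgebraicIndependent k y := by
  intro hy
  have key : ∀ u : Fin 5 → K, (c 1 * aeval x (ℓ 2) - c 2 * aeval x (ℓ 1)) * (∑ i, u i * x i) = 0 := by
    intro u
    obtain ⟨D, hD⟩ := Generic.exists_derivation y hy u
    have hDl : ∀ j, D (aeval x (ℓ j)) = ∑ i, algebraMap k K (v j i) * D (x i) := by
      intro j
      rw [hℓ, map_sum]
      refine Finset.sum_congr rfl fun i _ => ?_
      rw [Derivation.leibniz, Derivation.map_algebraMap, smul_zero, add_zero, smul_eq_mul]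
    have hDy : D (∑ i, y i * x i) = ∑ i, u i * x i + ∑ i, y i * D (x i) := by
      rw [map_sum, ← Finset.sum_add_distrib]
      refine Finset.sum_congr rfl fun i _ => ?_
      rw [Derivation.leibniz, hD, smul_eq_mul, smul_eq_mul]
      ring
    have d0 := congrArg D e0
    rw [hDl, map_zero] at d0
    have d1 := congrArg D e1
    rw [map_zero, map_add, Generic.derivation_aeval, Derivation.leibniz, hDl, hDy] at d1
    have d2 := congrArg D e2
    rw [map_zero, map_sub, Generic.derivation_aeval, Derivation.leibniz, hDl, hDy] at d2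
    simp only [smul_eq_mul] at d1 d2
    have d4 : ∑ i, (c 0 * algebraMap k K (v 0 i) + c 1 * (aeval x (pderiv i (q 0)) +
      algebraMap k K (v 2 i) * (∑ i, y i * x i) + aeval x (ℓ 2) * y i) +
      c 2 * (aeval x (pderiv i (q 1)) - algebraMap k K (v 1 i) * (∑ i, y i * x i) - aeval x (ℓ 1) * y i)) *
        D (x i) = 0 :=
      Finset.sum_eq_zero fun i _ => by rw [e4 i, zero_mul]
    have d5 : ∑ i, (c 0 * algebraMap k K (v 0 i) + c 1 * (aeval x (pderiv i (q 0)) +
      algebraMap k K (v 2 i) * (∑ i, y i * x i) + aeval x (ℓ 2) * y i) +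
      c 2 * (aeval x (pderiv i (q 1)) - algebraMap k K (v 1 i) * (∑ i, y i * x i) - aeval x (ℓ 1) * y i)) *
        D (x i) =
      c 0 * (∑ i, algebraMap k K (v 0 i) * D (x i)) + c 1 * ((∑ i, aeval x (pderiv i (q 0)) * D (x i)) +
        (∑ i, algebraMap k K (v 2 i) * D (x i)) * (∑ i, y i * x i) +
        aeval x (ℓ 2) * (∑ i, y i * D (x i))) + c 2 * ((∑ i, aeval x (pderiv i (q 1)) * D (x i)) -
        (∑ i, algebraMap k K (v 1 i) * D (x i)) * (∑ i, y i * x i) -
        aeval x (ℓ 1) * (∑ i, y i * D (x i))) := by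
      generalize (∑ i, y i * x i) = Y0
      simp only [Finset.mul_sum, Finset.sum_mul, ← Finset.sum_add_distrib, ← Finset.sum_sub_distrib]
      exact Finset.sum_congr rfl fun i _ => by ring
    rw [d5, d0] at d4
    linear_combination c 1 * d1 + c 2 * d2 - d4
  have hlin : c 1 * aeval x (ℓ 2) = c 2 * aeval x (ℓ 1) := by
    obtain ⟨i, hi⟩ : ∃ i, x i ≠ 0 := by
      by_contra hcon
      push Not at hcon
      exact hx (funext hcon)
    have h1 := key (Pi.single i 1)
    have h2 : ∑ l, (Pi.single i 1 : Fin 5 → K) l * x l = x i := by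
      rw [Finset.sum_eq_single i]
      · simp
      · intro l _ hl; simp [hl]
      · simp
    rw [h2] at h1
    exact sub_eq_zero.1 ((mul_eq_zero.1 h1).resolve_right hi)
  have e3 : aeval x F = 0 := by
    rw [hF, map_add, map_mul, map_mul]
    linear_combination aeval x (ℓ 1) * e1 + aeval x (ℓ 2) * e2
  have hg : ∀ i, aeval x (pderiv i F) = aeval x (ℓ 1) * (aeval x (pderiv i (q 0)) +
      algebraMap k K (v 2 i) * (∑ i, y i * x i) + aeval x (ℓ 2) * y i) +
      aeval x (ℓ 2) * (aeval x (pderiv i (q 1)) - algebraMap k K (v 1 i) * (∑ i, y i * x i) -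
        aeval x (ℓ 1) * y i) := by
    intro i
    rw [hF, map_add, Derivation.leibniz, Derivation.leibniz, hpd, hpd]
    simp only [smul_eq_mul, map_add, map_mul, algHom_C]
    linear_combination algebraMap k K (v 1 i) * e1 + algebraMap k K (v 2 i) * e2
  by_cases hc1 : c 1 = 0
  · by_cases hc2 : c 2 = 0
    · obtain ⟨i, hi⟩ : ∃ i, v 0 i ≠ 0 := by
        by_contra hcon
        push Not at hcon
        exact hv (funext hcon)
      have h1 := e4 i
      rw [hc1, hc2, zero_mul, zero_mul, add_zero, add_zero] at h1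
      have hc0 : c 0 = 0 := (mul_eq_zero.1 h1).resolve_right (fun h0 => hi ((map_eq_zero _).1 h0))
      apply e5
      funext l
      fin_cases l
      exacts [hc0, hc1, hc2]
    · refine hx (hS x e0 e3 ⟨-(aeval x (ℓ 2) * c 0 / c 2), fun i => ?_⟩)
      have h1 := e4 i
      rw [hg i]
      field_simp
      linear_combination aeval x (ℓ 2) * h1 - (aeval x (pderiv i (q 0)) +
        algebraMap k K (v 2 i) * (∑ i, y i * x i) + aeval x (ℓ 2) * y i) * hlin
  · refine hx (hS x e0 e3 ⟨-(aeval x (ℓ 1) * c 0 / c 1), fun i => ?_⟩)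
    have h1 := e4 i
    rw [hg i]
    field_simp
    linear_combination aeval x (ℓ 1) * h1 + (aeval x (pderiv i (q 1)) -
      algebraMap k K (v 1 i) * (∑ i, y i * x i) - aeval x (ℓ 1) * y i) * hlin

end Field

section Main

variable {k : Type u} [Field k] [IsAlgClosed k] [CharZero k]
variable (v : Fin 3 → Fin 5 → k) (ℓ : Fin 3 → MvPolynomial (Fin 5) k) (q : Fin 2 → MvPolynomial (Fin 5) k)
  (F : MvPolynomial (Fin 5) k)

/-- The gradients are independent for a general linear form `a`. -/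
theorem isGeneric (hℓ : ∀ j, ℓ j = ∑ i, C (v j i) * X i) (hpd : ∀ j i, pderiv i (ℓ j) = C (v j i))
    (hF : F = ℓ 1 * q 0 + ℓ 2 * q 1) (hv : v 0 ≠ 0)
    (hS : ∀ x : Fin 5 → k, eval x (ℓ 0) = 0 → eval x F = 0 →
      (∃ t : k, ∀ i, eval x (pderiv i F) = t * v 0 i) → x = 0) :
    LefPen.IsGeneric k {w : Fin 5 → k | ∀ x : Fin 5 → k, x ≠ 0 → eval x (ℓ 0) = 0 →
      eval x (q 0) + eval x (ℓ 2) * ∑ i, w i * x i = 0 → eval x (q 1) - eval x (ℓ 1) * ∑ i, w i * x i = 0 →
      LinearIndependent k ![v 0, fun i => eval x (pderiv i (q 0)) + v 2 i * (∑ i, w i * x i) + eval x (ℓ 2) * w i,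
        fun i => eval x (pderiv i (q 1)) - v 1 i * (∑ i, w i * x i) - eval x (ℓ 1) * w i]} := by
  have hinf : Infinite k := IsAlgClosed.instInfinite
  let τ := Fin 5 ⊕ (Fin 3 ⊕ (Fin 3 ⊕ Fin 5))
  let em : MvPolynomial (Fin 5) k →ₐ[k] MvPolynomial ((Fin 5) ⊕ τ) k := rename (fun i => Sum.inr (Sum.inl i))
  let A : Fin 5 → MvPolynomial ((Fin 5) ⊕ τ) k := fun i => X (Sum.inl i)
  let xx : Fin 5 → MvPolynomial ((Fin 5) ⊕ τ) k := fun i => X (Sum.inr (Sum.inl i))
  let cc : Fin 3 → MvPolynomial ((Fin 5) ⊕ τ) k := fun i => X (Sum.inr (Sum.inr (Sum.inl i)))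
  let rr : Fin 3 → MvPolynomial ((Fin 5) ⊕ τ) k := fun i => X (Sum.inr (Sum.inr (Sum.inr (Sum.inl i))))
  let ss : Fin 5 → MvPolynomial ((Fin 5) ⊕ τ) k := fun i => X (Sum.inr (Sum.inr (Sum.inr (Sum.inr i))))
  let S : Set (MvPolynomial ((Fin 5) ⊕ τ) k) :=
    {em (ℓ 0), em (q 0) + em (ℓ 2) * ∑ i, A i * xx i, em (q 1) - em (ℓ 1) * ∑ i, A i * xx i,
      ∑ l, rr l * cc l - 1, ∑ l, ss l * xx l - 1} ∪
    Set.range fun i : Fin 5 => cc 0 * C (v 0 i) + cc 1 * (em (pderiv i (q 0)) + C (v 2 i) * (∑ i, A i * xx i) +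
        em (ℓ 2) * A i) +
      cc 2 * (em (pderiv i (q 1)) - C (v 1 i) * (∑ i, A i * xx i) - em (ℓ 1) * A i)
  have hem : ∀ {K : Type u} [Field K] [Algebra k K] (y : Fin 5 → K) (p : τ → K) (P : MvPolynomial (Fin 5) k),
      aeval (Sum.elim y p) (em P) = aeval (fun i => p (Sum.inl i)) P := by
    intro K _ _ y p P
    rw [aeval_rename]
    rfl
  refine Groth.Agent.Lefpen.H702.Engine.isGeneric_of_system (LinearEquiv.refl k (Fin 5 → k)) S ?_ ?_
  · intro K _ _ y p hP
    refine no_generic v ℓ q F ?_ hpd hF hv ?_ y (fun i => p (Sum.inl i)) (fun i => p (Sum.inr (Sum.inl i)))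
      ?_ ?_ ?_ ?_ ?_ ?_
    · intro j x
      rw [hℓ]
      simp
    · intro x
      exact smooth_ext v ℓ F hv hS x
    · have := hP _ (Or.inl (Or.inl rfl))
      rwa [hem] at this
    · have := hP _ (Or.inl (Or.inr (Or.inl rfl)))
      simpa [hem, A, xx] using this
    · have := hP _ (Or.inl (Or.inr (Or.inr (Or.inl rfl))))
      simpa [hem, A, xx] using this
    · intro i
      have := hP _ (Or.inr ⟨i, rfl⟩)
      simpa [hem, A, xx, cc] using this
    · intro h0
      have := hP _ (Or.inl (Or.inr (Or.inr (Or.inr (Or.inl rfl)))))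
      have h1 : ∀ l, p (Sum.inr (Sum.inl l)) = 0 := fun l => congrFun h0 l
      simp [cc, rr, h1] at this
    · intro h0
      have := hP _ (Or.inl (Or.inr (Or.inr (Or.inr (Or.inr rfl)))))
      have h1 : ∀ l, p (Sum.inl l) = 0 := fun l => congrFun h0 l
      simp [ss, xx, h1] at this
  · intro w hw
    simp only [Set.mem_ofPred_eq, not_forall] at hw
    obtain ⟨x, h0, h1, h2, h3, h4⟩ := hw
    rw [Fintype.not_linearIndependent_iff] at h4
    obtain ⟨c, hc, i0, hi0⟩ := h4
    obtain ⟨r, hr⟩ := exists_ne (c := c) (fun h => hi0 (congrFun h i0))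
    obtain ⟨s, hs⟩ : ∃ s : Fin 5 → k, ∑ l, s l * x l = 1 := by
      obtain ⟨i, hi⟩ : ∃ i, x i ≠ 0 := by
        by_contra hcon
        push Not at hcon
        exact h0 (funext hcon)
      refine ⟨Pi.single i (x i)⁻¹, ?_⟩
      rw [Finset.sum_eq_single i]
      · simp [hi]
      · intro l _ hl; simp [hl]
      · simp
    have hem' : ∀ (p : τ → k) (P : MvPolynomial (Fin 5) k),
      aeval (Sum.elim w p) (em P) = eval (fun i => p (Sum.inl i)) P := fun p P => by
        rw [hem]; rfl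
    have hem2 : ∀ (p : τ → k) (P : MvPolynomial (Fin 5) k),
      eval (Sum.elim w p) (em P) = eval (fun i => p (Sum.inl i)) P := fun p P => hem' p P
    refine ⟨Sum.elim x (Sum.elim c (Sum.elim r s)), ?_⟩
    rintro P ((rfl | rfl | rfl | rfl | rfl) | ⟨i, rfl⟩)
    · rw [LinearEquiv.refl_apply, hem']; exact h1
    · simpa [hem2, A, xx] using h2
    · simpa [hem2, A, xx] using h3
    · simpa [rr, cc, sub_eq_zero] using hr
    · simpa [ss, xx, sub_eq_zero] using hs
    · have := congrFun hc i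
      simp only [Fin.sum_univ_three, Matrix.cons_val_zero, Matrix.cons_val_one, Matrix.cons_val_two] at this
      simpa [hem2, A, xx, cc] using this

end Main

end K870.QuartGen
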