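import Groth.Agent.Fano.K714.QuartDef
import Groth.Agent.Fano.K714.JacSm
import Groth.Agent.Fano.K714.Zeros
import Groth.Agent.Fano.K271.JacCrit
import Groth.Agent.Fano.K271.QuintDecomp
import Groth.Agent.Fano.K870.QuartGen
import Groth.Agent.Variety.K658.RelDimComp

/-!
# Existence of a smooth elliptic quartic on a smooth cubic threefold

`exists_good`: some decomposition `f = v₀ M₀ + v₁ M₁ + v₂ M₂` has `V_+(v₀, M₁, M₂)` smooth of dimension one.
-/

set_option autoImplicit false

universe u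

open CategoryTheory CategoryTheory.Limits AlgebraicGeometry TopologicalSpace Opposite

namespace K870.QuartEx

open LefPen MvPolynomial Groth.Agent.Fano.K714.Rat Groth.Agent.Fano.K714.Quart
open Groth.Agent.Lefpen.H705.HypIdeal K715.Geo K271

variable {k : Type u} [Field k]

theorem lin_eq (v : Fin 5 → k) : (lin v).1 = ∑ i, C (v i) * X i := by
  simp [lin, MvPolynomial.smul_eq_C_mul]

theorem pderiv_lin (v : Fin 5 → k) (t : Fin 5) : pderiv t (lin v).1 = C (v t) := by
  rw [lin_eq, map_sum]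
  rw [Finset.sum_eq_single t]
  · rw [Derivation.leibniz, pderiv_C, pderiv_X_self, smul_zero, add_zero, smul_eq_mul, mul_one]
  · intro i _ hi
    rw [Derivation.leibniz, pderiv_C, pderiv_X_of_ne hi, smul_zero, smul_zero, add_zero]
  · simp

theorem quad_add (M N : Fin 5 → Fin 5 → k) : quad (fun i j => M i j + N i j) = quad M + quad N := by
  simp only [quad, add_smul, Finset.sum_add_distrib]

theorem quad_sub (M N : Fin 5 → Fin 5 → k) : quad (fun i j => M i j - N i j) = quad M - quad N := by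
  rw [sub_eq_add_neg]
  simp only [quad, add_smul, neg_smul, ← Finset.sum_neg_distrib, ← Finset.sum_add_distrib, sub_eq_add_neg]

theorem quad_mul (v w : Fin 5 → k) : (quad fun i j => v i * w j).1 = (lin v).1 * (lin w).1 := by
  rw [lin_eq, lin_eq, Finset.sum_mul_sum]
  simp only [quad, Submodule.coe_sum, Submodule.coe_smul, MvPolynomial.smul_eq_C_mul, map_mul]
  exact Finset.sum_congr rfl fun i _ => Finset.sum_congr rfl fun j _ => by ring

/-- The degrees of the equations. -/
def dQ : Fin 3 → ℕ := ![1, 2, 2]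

/-- The equations. -/
noncomputable def GQ (p : Data k) : ∀ i : Fin 3, Form 4 k (dQ i) := fun i => match i with
  | 0 => lin (p.1 0)
  | 1 => quad (p.2 1)
  | 2 => quad (p.2 2)

theorem ideal_cI (p : Data k) (j : Fin 5) : (cI p).ideal ⟨chart 4 k j, isAffineOpen_chart j⟩ =
    Ideal.span (Set.range fun i => rho j (le_refl (chart 4 k j)) (GQ p i).1) := by
  have h1 : (cI p).ideal ⟨chart 4 k j, isAffineOpen_chart j⟩ =
      (hypIdeal (lin (p.1 0))).ideal ⟨chart 4 k j, isAffineOpen_chart j⟩ ⊔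
        (hypIdeal (quad (p.2 1))).ideal ⟨chart 4 k j, isAffineOpen_chart j⟩ ⊔
        (hypIdeal (quad (p.2 2))).ideal ⟨chart 4 k j, isAffineOpen_chart j⟩ := rfl
  rw [h1, ideal_hyp j ⟨chart 4 k j, isAffineOpen_chart j⟩ le_rfl, ideal_hyp j ⟨chart 4 k j, isAffineOpen_chart j⟩ le_rfl,
    ideal_hyp j ⟨chart 4 k j, isAffineOpen_chart j⟩ le_rfl]
  apply le_antisymm
  · refine sup_le (sup_le ?_ ?_) ?_
    · exact Ideal.span_mono (by rintro _ rfl; exact ⟨0, rfl⟩)
    · exact Ideal.span_mono (by rintro _ rfl; exact ⟨1, rfl⟩)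
    · exact Ideal.span_mono (by rintro _ rfl; exact ⟨2, rfl⟩)
  · rw [Ideal.span_le]
    rintro _ ⟨i, rfl⟩
    fin_cases i
    · exact Ideal.mem_sup_left (Ideal.mem_sup_left (Ideal.subset_span rfl))
    · exact Ideal.mem_sup_left (Ideal.mem_sup_right (Ideal.subset_span rfl))
    · exact Ideal.mem_sup_right (Ideal.subset_span rfl)

variable [IsAlgClosed k] [CharZero k]

/-- A decomposition whose curve satisfies the Jacobian criterion, on a smooth hyperplane section. -/
theorem exists_jac (f : LefPen.Form 4 k 3) (hf : f ≠ 0) [Smooth (ps f)] :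
    ∃ q : Data k, q ∈ Sol f ∧
      (∀ z : Fin 5 → k, z ≠ 0 → (∀ i, eval z (GQ q i).1 = 0) →
        LinearIndependent k fun l => fun t => eval z (pderiv t (GQ q l).1)) ∧
      (∀ z : Fin 5 → k, z ≠ 0 → (∑ i, q.1 0 i * z i) = 0 → eval z f.1 = 0 →
        ¬ ∃ c : k, ∀ i, eval z (pderiv i f.1) = c * q.1 0 i) := by
  have hinf : Infinite k := IsAlgClosed.instInfinite
  obtain ⟨⟨v, M⟩, hp, hsec⟩ := QuintDecomp.exists_sol f (Groth.Agent.Fano.K714.JacSm.smoothOn_tri f hf inferInstance)
  have hf1 : f.1 = ∑ j : Fin 3, (lin (v j)).1 * (quad (M j)).1 := hp.2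
  have hv0 : v 0 ≠ 0 := hp.1.ne_zero 0
  let ℓ : Fin 3 → MvPolynomial (Fin 5) k := fun j => (lin (v j)).1
  let q : Fin 2 → MvPolynomial (Fin 5) k := ![(quad (M 1)).1, (quad (M 2)).1]
  let F : MvPolynomial (Fin 5) k := ℓ 1 * q 0 + ℓ 2 * q 1
  have hf2 : f.1 = ℓ 0 * (quad (M 0)).1 + F := by
    rw [hf1, Fin.sum_univ_three]
    change _ = _ + (_ + _)
    rw [add_assoc]
    rfl
  have hS : ∀ x : Fin 5 → k, eval x (ℓ 0) = 0 → eval x F = 0 →
      (∃ t : k, ∀ i, eval x (pderiv i F) = t * v 0 i) → x = 0 := by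
    rintro x h0 h1 ⟨t, ht⟩
    by_contra hx
    refine hsec x hx (by rw [← h0]; exact (eval_lin _ _).symm) (by rw [hf2, map_add, map_mul, h0, h1]; ring)
      ⟨eval x (quad (M 0)).1 + t, fun i => ?_⟩
    rw [hf2, map_add, Derivation.leibniz, map_add, ht]
    have h2 : pderiv i (ℓ 0) = C (v 0 i) := pderiv_lin (v 0) i
    rw [h2]
    simp only [smul_eq_mul, map_add, map_mul, eval_C, h0]
    change _ = (_ + t) * v 0 i
    ring
  -- the general linear form
  obtain ⟨g, hg, ⟨w, hw⟩, hgen⟩ := QuartGen.isGeneric v ℓ q F (fun j => lin_eq (v j))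
    (fun j i => pderiv_lin (v j) i) rfl hv0 hS
  have hw' := hgen w hw
  let P : Data k := (v, ![M 0, fun i j => M 1 i j + v 2 i * w j, fun i j => M 2 i j - v 1 i * w j])
  have hP1 : (quad (P.2 1)).1 = q 0 + ℓ 2 * (lin w).1 := by
    change (quad (fun i j => M 1 i j + v 2 i * w j)).1 = _
    rw [quad_add (M 1) (fun i j => v 2 i * w j), Submodule.coe_add, quad_mul]
    rfl
  have hP2 : (quad (P.2 2)).1 = q 1 - ℓ 1 * (lin w).1 := by
    change (quad (fun i j => M 2 i j - v 1 i * w j)).1 = _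
    rw [quad_sub (M 2) (fun i j => v 1 i * w j), Submodule.coe_sub, quad_mul]
    rfl
  refine ⟨P, ⟨hp.1, ?_⟩, ?_, hsec⟩
  · rw [Fin.sum_univ_three, hP1, hP2, hf2]
    change _ = ℓ 0 * (quad (M 0)).1 + ℓ 1 * (q 0 + ℓ 2 * (lin w).1) + ℓ 2 * (q 1 - ℓ 1 * (lin w).1)
    change ℓ 0 * (quad (M 0)).1 + (ℓ 1 * q 0 + ℓ 2 * q 1) = _
    ring
  · intro z hz h0
    have z0 : eval z (ℓ 0) = 0 := h0 0
    have z1 : eval z (q 0) + eval z (ℓ 2) * ∑ i, w i * z i = 0 := by
      have h1 : eval z (quad (P.2 1)).1 = 0 := h0 1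
      rw [hP1, map_add, map_mul, eval_lin w] at h1
      exact h1
    have z2 : eval z (q 1) - eval z (ℓ 1) * ∑ i, w i * z i = 0 := by
      have h1 : eval z (quad (P.2 2)).1 = 0 := h0 2
      rw [hP2, map_sub, map_mul, eval_lin w] at h1
      exact h1
    have h1 := hw' z hz z0 z1 z2
    convert h1 using 1
    funext l
    fin_cases l
    · funext t
      change eval z (pderiv t (lin (v 0)).1) = v 0 t
      rw [pderiv_lin, eval_C]
    · funext t
      change eval z (pderiv t (quad (P.2 1)).1) = _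
      have h2 : pderiv t (ℓ 2) = C (v 2 t) := pderiv_lin (v 2) t
      rw [hP1, map_add, Derivation.leibniz, pderiv_lin, h2]
      simp only [smul_eq_mul, map_add, map_mul, eval_C, eval_lin]
      change _ = eval z (pderiv t (q 0)) + v 2 t * _ + _ * w t
      ring
    · funext t
      change eval z (pderiv t (quad (P.2 2)).1) = _
      have h2 : pderiv t (ℓ 1) = C (v 1 t) := pderiv_lin (v 1) t
      rw [hP2, map_sub, Derivation.leibniz, pderiv_lin, h2]
      simp only [smul_eq_mul, map_add, map_sub, map_mul, eval_C, eval_lin]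
      change _ = eval z (pderiv t (q 1)) - v 1 t * _ - _ * w t
      ring

/-- Jacobian criterion for the curve of a decomposition. -/
theorem good_of_jac (q : Data k) (h : ∀ z : Fin 5 → k, z ≠ 0 → (∀ i, eval z (GQ q i).1 = 0) →
    LinearIndependent k fun l => fun t => eval z (pderiv t (GQ q l).1)) : Good q := by
  have hsmo : SmoothOfRelativeDimension 1 ((cI q).subschemeι ≫ CohB1.ProjSpace.toSpec 4 k) := by
    refine JacCrit.smoothOfRelativeDimension dQ (GQ q) (cI q) (ideal_cI q) (c := 3) (m := 1) rfl ?_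
    intro z hz h0
    exact ⟨id, h z hz h0, fun i => ⟨1, by simp, by rw [one_mul]; exact Ideal.subset_span ⟨i, rfl⟩⟩⟩
  have hne : Nonempty (cI q).subscheme := by
    obtain ⟨z, hz, h0⟩ := K714.Zeros.exists_ne_zero (N := 5) (ι := Fin 3) (by simp) dQ
      (by intro i; fin_cases i <;> simp [dQ]) (fun i => (GQ q i).1)
      (fun i => (mem_homogeneousSubmodule _ _).mp (GQ q i).2)
    exact JacCrit.nonempty_of_zero dQ (GQ q) (cI q) (ideal_cI q) z hz h0
  exact ⟨SmoothOfRelativeDimension.smooth 1 _,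
    K658.RelDimComp.topologicalKrullDim_eq 1 ((cI q).subschemeι ≫ CohB1.ProjSpace.toSpec 4 k)⟩

/-- Existence of a smooth elliptic quartic. -/
theorem exists_good (f : LefPen.Form 4 k 3) (hf : f ≠ 0) [Smooth (ps f)] : ∃ q ∈ Sol f, Good q := by
  obtain ⟨q, hq, h, -⟩ := exists_jac f hf
  exact ⟨q, hq, good_of_jac q h⟩

end K870.QuartEx
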